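import Cfsg.Agent.H421.UniS.Frame
import Cfsg.Agent.H421.Uni.Unip

/-!
# Theorem (U) for symplectic groups: the unipotent groups (helper421, for helper45)

`sPgrp`, `sNeg`.
-/

set_option autoImplicit false
set_option linter.unusedSimpArgs false
set_option linter.unusedSectionVars false

namespace Cfsg.Agent.H421.UniS

open Matrix Cfsg.Agent.H45.UniS Cfsg.Agent.ClassicalGeometry.SympBasic
open Cfsg.Agent.H421.Uni (Ge Pu Pt UU)
open Cfsg.Agent.H421.Uni

variable {m : ℕ} {k : Type*} [Field k]

/-- the level function: `f i` has level `m - i`, `e i` level `-(m - i)` -/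
def lev (m : ℕ) : Fin m ⊕ Fin m → ℤ
  | .inl i => (i : ℤ) - m
  | .inr i => m - (i : ℤ)

/-- the level function of the `i`th minimal parabolic -/
def levi (i : Fin m) : Fin m ⊕ Fin m → ℤ
  | .inl j => if j = i then (i : ℤ) + 1 - m else (j : ℤ) - m
  | .inr j => if j = i then m - ((i : ℤ) + 1) else m - (j : ℤ)

theorem levi_lt {i : Fin m} {a b : Fin m ⊕ Fin m} (h : levi i a < levi i b) : lev m a < lev m b := by
  have hi := i.2
  rcases a with a | a <;> rcases b with b | b <;> simp only [levi, lev, Fin.ext_iff] at h ⊢ <;>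
    (try split_ifs at h) <;> (try have := a.2) <;> (try have := b.2) <;> omega

/-- criterion -/
theorem pu_of_single {φ : Fin m ⊕ Fin m → ℤ} {g : VV m k ≃ₗ[k] VV m k}
    (h : ∀ b, Ge φ (φ b + 1) (g (Pi.single b 1) - Pi.single b 1)) : Pu φ g := by
  intro h0 v hv
  have h1 : g v - v = ∑ b, v b • (g (Pi.single b 1) - Pi.single b 1) := by
    have h2 : v = ∑ b, v b • (Pi.single b (1 : k) : VV m k) := by
      funext j
      simp [Finset.sum_apply, Pi.single_apply]
    conv_lhs => rw [h2]
    rw [map_sum, ← Finset.sum_sub_distrib]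
    apply Finset.sum_congr rfl
    intro b _
    rw [map_smul, smul_sub]
  rw [h1]
  intro a ha
  rw [Finset.sum_apply]
  apply Finset.sum_eq_zero
  intro b _
  rw [Pi.smul_apply]
  by_cases hb : v b = 0
  · rw [hb, zero_smul]
  · have h3 : h0 ≤ φ b := by
      by_contra hc
      exact hb (hv b (by omega))
    rw [h b a (by omega), smul_zero]

theorem ge_single {φ : Fin m ⊕ Fin m → ℤ} {h : ℤ} {b : Fin m ⊕ Fin m} (hb : h ≤ φ b) : Ge φ h (Pi.single b (1 : k) : VV m k) := by
  intro a ha
  rw [Pi.single_apply, if_neg]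
  rintro rfl
  omega

theorem ge_ee {φ : Fin m ⊕ Fin m → ℤ} {h : ℤ} {i : Fin m} (hi : h ≤ φ (.inl i)) : Ge φ h (ee i : VV m k) := ge_single hi

theorem ge_ff {φ : Fin m ⊕ Fin m → ℤ} {h : ℤ} {i : Fin m} (hi : h ≤ φ (.inr i)) : Ge φ h (ff i : VV m k) := ge_single hi

/-- a vector with all coordinates `0` in levels `< h`, times a coordinate which is `0` -/
theorem coord {φ : Fin m ⊕ Fin m → ℤ} {h : ℤ} {v w : VV m k} (hv : Ge φ h v) (c : k) (b : Fin m ⊕ Fin m)
    (hw : h ≤ φ b → Ge φ h w) : Ge φ h ((c * v b) • w) := by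
  by_cases hb : v b = 0
  · rw [hb, mul_zero, zero_smul]
    exact Ge.zero
  · refine Ge.smul _ (hw ?_)
    by_contra hc
    exact hb (hv b (by omega))

/-- as `coord`, one level up -/
theorem coord_succ {φ : Fin m ⊕ Fin m → ℤ} {h : ℤ} {v w : VV m k} (hv : Ge φ h v) (c : k) (b : Fin m ⊕ Fin m)
    (hw : h ≤ φ b → Ge φ (h + 1) w) : Ge φ (h + 1) ((c * v b) • w) := by
  by_cases hb : v b = 0
  · rw [hb, mul_zero, zero_smul]
    exact Ge.zero
  · refine Ge.smul _ (hw ?_)
    by_contra hc
    exact hb (hv b (by omega))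

theorem ys_pu (i : Fin m) (s : k) : Pu (lev m) (lin (ys i s)) := by
  intro h v hv
  by_cases hi : i.1 + 1 < m
  · rw [ys_long hi]
    have e : v + (s * v (.inl i)) • ee ⟨i.1 + 1, hi⟩ - (s * v (.inr ⟨i.1 + 1, hi⟩)) • ff i - v =
        (s * v (.inl i)) • ee ⟨i.1 + 1, hi⟩ - (s * v (.inr ⟨i.1 + 1, hi⟩)) • ff i := by abel
    rw [e]
    refine (coord_succ hv s _ fun hb => ge_ee ?_).sub (coord_succ hv s _ fun hb => ge_ff ?_)
    · simp only [lev] at hb ⊢; push_cast; omega
    · simp only [lev] at hb ⊢; push_cast at hb; omega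
  · rw [ys_short hi]
    have e : v + (s * v (.inl i)) • ff i - v = (s * v (.inl i)) • ff i := by abel
    have him : (i : ℤ) + 1 = m := by have := i.2; omega
    rw [e]
    refine coord_succ hv s _ fun hb => ge_ff ?_
    simp only [lev] at hb ⊢; omega

theorem xs_pt (i : Fin m) (s : k) : Pt (levi i) (lin (xs i s)) := by
  intro h v hv
  by_cases hi : i.1 + 1 < m
  · have hne : (⟨i.1 + 1, hi⟩ : Fin m) ≠ i := by
      intro h
      have := congrArg Fin.val h
      simp at this
    rw [xs_long hi]
    refine (hv.add (coord hv s _ fun hb => ge_ee ?_)).sub (coord hv s _ fun hb => ge_ff ?_)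
    · simp only [levi, if_true, if_neg hne] at hb ⊢; push_cast at hb; omega
    · simp only [levi, if_true, if_neg hne] at hb ⊢; push_cast; omega
  · rw [xs_short hi]
    have him : (i : ℤ) + 1 = m := by have := i.2; omega
    refine hv.add (coord hv s _ fun hb => ge_ee ?_)
    simp only [levi, if_true] at hb ⊢; omega

theorem ys_pt (i : Fin m) (s : k) : Pt (levi i) (lin (ys i s)) := by
  intro h v hv
  by_cases hi : i.1 + 1 < m
  · have hne : (⟨i.1 + 1, hi⟩ : Fin m) ≠ i := by
      intro h
      have := congrArg Fin.val h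
      simp at this
    rw [ys_long hi]
    refine (hv.add (coord hv s _ fun hb => ge_ee ?_)).sub (coord hv s _ fun hb => ge_ff ?_)
    · simp only [levi, if_true, if_neg hne] at hb ⊢; push_cast; omega
    · simp only [levi, if_true, if_neg hne] at hb ⊢; push_cast at hb; omega
  · rw [ys_short hi]
    have him : (i : ℤ) + 1 = m := by have := i.2; omega
    refine hv.add (coord hv s _ fun hb => ge_ff ?_)
    simp only [levi, if_true] at hb ⊢; omega

/-! ### elimination -/

/-- no `e j`, `f j`, `j ≤ l` -/
def Mid (l : ℕ) (w : VV m k) : Prop := ∀ j : Fin m, j.1 ≤ l → w (.inl j) = 0 ∧ w (.inr j) = 0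

theorem Mid.neg {l : ℕ} {w : VV m k} (hw : Mid l w) : Mid l (-w) := fun j hj => by
  rw [Pi.neg_apply, Pi.neg_apply, (hw j hj).1, (hw j hj).2, neg_zero]
  exact ⟨rfl, rfl⟩

theorem om_mid {l : Fin m} {w : VV m k} (hw : Mid l.1 w) : sympForm m k (ff l) w = 0 := by
  rw [om_ff]
  exact (hw l le_rfl).1

/-- `K` contains all `sl (ff l) w c` -/
def Sg (K : Subgroup (SG m k)) (l : Fin m) (w : VV m k) : Prop :=
  ∃ h : sympForm m k (ff l) w = 0, ∀ c, sl (ff l) w c h ∈ K

theorem Sg.add {K : Subgroup (SG m k)} {l : Fin m} {w w' : VV m k} (h : Sg K l w)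
    (h' : Sg K l w') : Sg K l (w + w') := by
  obtain ⟨h1, h2⟩ := h
  obtain ⟨h3, h4⟩ := h'
  have h5 : sympForm m k (ff l) (w + w') = 0 := by rw [sympForm_add_right, h1, h3, add_zero]
  refine ⟨h5, fun c => ?_⟩
  have h6 := K.mul_mem (h2 (c - sympForm m k w' w)) (h4 0)
  rw [sl_mul h1 h3] at h6
  rw [sl_congr h5 h5 rfl rfl (show c = c - sympForm m k w' w + 0 + sympForm m k w' w by ring)]
  exact h6

theorem Sg.congr {K : Subgroup (SG m k)} {l : Fin m} {w w' : VV m k} (h : Sg K l w)
    (e : w = w') : Sg K l w' := e ▸ h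

variable {K : Subgroup (SG m k)} (hK : ∀ (i : Fin m) (s : k), ys i s ∈ K)

include hK

theorem sg_mid (h2 : (2 : k) ≠ 0) (l : Fin m) (w : VV m k) (hw : Mid l.1 w) : Sg K l w := by
  obtain ⟨d, hd⟩ : ∃ d, l.1 + 1 + d = m := ⟨m - (l.1 + 1), by omega⟩
  induction d generalizing l w with
  | zero =>
    have hl : ¬ l.1 + 1 < m := by omega
    have e : w = 0 := by
      funext j
      rcases j with j | j
      · exact (hw j (by have := j.2; omega)).1
      · exact (hw j (by have := j.2; omega)).2
    subst e
    refine ⟨sympForm_zero_right _, fun c => ?_⟩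
    rw [sl_ys_short hl]
    exact hK _ _
  | succ d ih =>
    have hl : l.1 + 1 < m := by omega
    set l' : Fin m := ⟨l.1 + 1, hl⟩ with hl'
    have hne : l ≠ l' := by
      intro h
      have := congrArg Fin.val h
      simp [hl'] at this
    have ih' := fun w hw => ih l' w hw (by simp only [hl']; omega)
    have hve : ∀ t : k, sympForm m k (ff l) (t • ee l') = 0 := fun t => by
      rw [om_ff, Pi.smul_apply, ee_e, if_neg hne, smul_zero]
    have hvf : ∀ t : k, sympForm m k (ff l) (t • ff l') = 0 := fun t => by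
      rw [om_ff, Pi.smul_apply, ff_e, smul_zero]
    have hK1 : ∀ t : k, sl (ff l) (t • ee l') 0 (hve t) ∈ K := fun t => by
      rw [sl_ys_long hl]; exact hK _ _
    -- the conjugates
    have key : ∀ (w' : VV m k), Mid l'.1 w' → ∀ c' t : k,
        ∃ h, sl (ff l) (t • ee l' - t • w' - (t * c') • ff l') 0 h ∈ K := by
      intro w' hw' c' t
      obtain ⟨h3, h4⟩ := ih' w' hw'
      have h6 := h4 c'
      have e1 : lin (sl (ff l') w' c' h3) (ff l) = ff l := by
        rw [sl_apply, om_ff, ff_e, om_ff, (hw' l (by simp only [hl']; omega)).1]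
        simp
      have e2 : lin (sl (ff l') w' c' h3) (t • ee l') = t • ee l' - t • w' - (t * c') • ff l' := by
        rw [sl_apply, sympForm_smul_left, sympForm_smul_left, om_ee, om_ee, ff_f, if_pos rfl, (hw' l' le_rfl).2]
        module
      have h7 := sl_conj (sl (ff l') w' c' h3) (c := 0) (hve t)
      have h8 : sympForm m k (ff l) (t • ee l' - t • w' - (t * c') • ff l') = 0 := by
        rw [← e1, ← e2, om_lin]; exact hve t
      refine ⟨h8, ?_⟩
      rw [sl_congr h8 (by rw [om_lin]; exact hve t) e1.symm e2.symm rfl, ← h7]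
      exact K.mul_mem (K.mul_mem h6 (hK1 t)) (K.inv_mem h6)
    -- both signs
    have hff : ∀ (s t : k), t * t = 1 → sl (ff l) (s • ff l') (t * s) (hvf s) ∈ K := by
      intro s t ht
      obtain ⟨h3, h4⟩ := key 0 (fun j _ => ⟨rfl, rfl⟩) (-(t * s)) t
      have h5 := K.mul_mem h4 (hK1 (-t))
      rw [sl_mul h3 (hve (-t))] at h5
      have h6 : sl (ff l) (t • ee l' - t • (0 : VV m k) - (t * -(t * s)) • ff l' + -t • ee l') (0 + 0 +
          sympForm m k (-t • ee l') (t • ee l' - t • (0 : VV m k) - (t * -(t * s)) • ff l'))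
          (by rw [sympForm_add_right, h3, hve, add_zero]) = sl (ff l) (s • ff l') (t * s) (hvf s) := by
        apply sl_congr _ _ rfl
        · have : t * -(t * s) = - s := by linear_combination - s * ht
          rw [this]
          module
        · rw [sympForm_smul_left, om_ee]
          simp only [Pi.sub_apply, Pi.smul_apply, ee_f, ff_f, if_true, smul_eq_mul, Pi.zero_apply]
          linear_combination (t * s) * ht
      rw [h6] at h5
      exact h5
    -- the centre
    have hcen : ∀ c : k, sl (ff l) 0 c (sympForm_zero_right _) ∈ K := by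
      intro c
      have h3 := hff (c / 2) 1 (by ring)
      have h4 := hff (-(c / 2)) (-1) (by ring)
      have h5 := K.mul_mem h3 h4
      rw [sl_mul] at h5
      rw [sl_congr (sympForm_zero_right _) (by rw [sympForm_add_right, hvf, hvf, add_zero]) rfl
        (show (0 : VV m k) = (c / 2) • ff l' + -(c / 2) • ff l' by module) (c' := 1 * (c / 2) + -1 * -(c / 2) +
          sympForm m k (-(c / 2) • ff l') ((c / 2) • ff l')) ?_]
      · exact h5
      · rw [sympForm_smul_left, om_ff, Pi.smul_apply, ff_e]
        field_simp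
        ring
    have hany : ∀ w' : VV m k, (∃ h c, sl (ff l) w' c h ∈ K) → Sg K l w' := by
      rintro w' ⟨h3, c, h4⟩
      refine ⟨h3, fun c' => ?_⟩
      have h5 := K.mul_mem h4 (hcen (c' - c))
      rw [sl_mul] at h5
      rw [sl_congr h3 (by rw [add_zero]; exact h3) rfl (add_zero w').symm (c' := c + (c' - c) + sympForm m k 0 w') (by
        rw [sympForm_zero_left]; ring)]
      exact h5
    have hSe : ∀ t : k, Sg K l (t • ee l') := fun t => hany _ ⟨hve t, 0, hK1 t⟩
    have hSf : ∀ t : k, Sg K l (t • ff l') := fun t => hany _ ⟨hvf t, _, hff t 1 (by ring)⟩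
    have hmid : ∀ w', Mid l'.1 w' → Sg K l w' := by
      intro w' hw'
      obtain ⟨h3, h4⟩ := key (-w') hw'.neg 0 1
      have h5 := (hany _ ⟨h3, 0, h4⟩).add (hSe (-1))
      refine h5.congr ?_
      module
    -- decomposition of `w`
    have hdec : w = w (.inl l') • ee l' + w (.inr l') • ff l' +
        (w - w (.inl l') • ee l' - w (.inr l') • ff l') := by abel
    refine Sg.congr (((hSe _).add (hSf _)).add (hmid _ ?_)) hdec.symm
    intro j hj
    rw [Pi.sub_apply, Pi.sub_apply, Pi.sub_apply, Pi.sub_apply, Pi.smul_apply, Pi.smul_apply, Pi.smul_apply,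
      Pi.smul_apply, ee_e, ee_f, ff_e, ff_f]
    by_cases hjl : j = l'
    · subst hjl
      simp
    · have h3 : j.1 ≤ l.1 := by
        have h4 : j.1 ≠ l.1 + 1 := fun h => hjl (Fin.ext h)
        simp only [hl'] at hj
        omega
      rw [(hw j h3).1, (hw j h3).2, if_neg hjl]
      simp

omit hK in
theorem sl_pu {l : Fin m} {w : VV m k} (hw : Mid l.1 w) (c : k) (h : sympForm m k (ff l) w = 0) :
    Pu (lev m) (lin (sl (ff l) w c h)) := by
  intro h0 v hv
  rw [sl_apply]
  have e : v + sympForm m k v (ff l) • w + sympForm m k v w • ff l + (c * sympForm m k v (ff l)) • ff l - v =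
      sympForm m k v w • ff l - ((1 * v (.inl l)) • w + (c * v (.inl l)) • ff l) := by
    rw [om_ff']
    module
  rw [e]
  refine Ge.sub ?_ ((coord_succ hv 1 _ fun hb => ?_).add (coord_succ hv _ _ fun hb => ge_ff ?_))
  · by_cases hh : h0 + 1 ≤ m - (l : ℤ)
    · exact Ge.smul _ (ge_ff (by simp only [lev]; omega))
    · have h1 : sympForm m k v w = 0 := by
        have hl := l.2
        rw [sympForm_eq_sum]
        apply Finset.sum_eq_zero
        intro j _
        by_cases hj : j.1 ≤ l.1
        · rw [(hw j hj).1, (hw j hj).2]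
          ring
        · rw [hv (.inl j) (by simp only [lev]; omega), hv (.inr j) (by simp only [lev]; omega)]
          ring
      rw [h1, zero_smul]
      exact Ge.zero
  · intro a ha
    simp only [lev] at hb
    rcases a with a | a
    · simp only [lev] at ha
      exact (hw a (by omega)).1
    · simp only [lev] at ha
      have := a.2
      omega
  · simp only [lev] at hb ⊢
    have := l.2
    omega

omit hK in
theorem eq_of_single {g g' : SG m k} (he : ∀ j, lin g (ee j) = lin g' (ee j))
    (hf : ∀ j, lin g (ff j) = lin g' (ff j)) : g = g' := by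
  apply lin_inj
  apply LinearEquiv.ext
  intro v
  have h2 : v = ∑ b, v b • (Pi.single b (1 : k) : VV m k) := by
    funext j
    simp [Finset.sum_apply, Pi.single_apply]
  rw [h2, map_sum, map_sum]
  apply Finset.sum_congr rfl
  intro b _
  rw [map_smul, map_smul]
  congr 1
  rcases b with b | b
  · exact he b
  · exact hf b

theorem mem_aux (h2 : (2 : k) ≠ 0) (d : ℕ) : ∀ (g : SG m k) (l : ℕ), l + d = m →
    Pu (lev m) (lin g) → (∀ j : Fin m, j.1 < l → lin g (ee j) = ee j ∧ lin g (ff j) = ff j) → g ∈ K := by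
  induction d with
  | zero =>
    intro g l hl hP hfix
    have hg : g = 1 := by
      apply eq_of_single
      · intro j
        rw [(hfix j (by have := j.2; omega)).1, map_one]
        rfl
      · intro j
        rw [(hfix j (by have := j.2; omega)).2, map_one]
        rfl
    rw [hg]
    exact K.one_mem
  | succ d ih =>
    intro g l hl hP hfix
    have hlm : l < m := by omega
    set L : Fin m := ⟨l, hlm⟩ with hL
    have hne : ∀ j : Fin m, j.1 < l → j ≠ L := fun j hj h => by
      rw [h] at hj
      simp [hL] at hj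
    -- `g` fixes `ff L`
    have h1 : lin g (ff L) = ff L := by
      have h3 := hP (m - l) (ff L) (ge_ff (by simp only [lev, hL]; omega))
      funext a
      rw [← sub_eq_zero]
      change (lin g (ff L) - ff L : VV m k) a = 0
      rcases a with a | a
      · exact h3 _ (by simp only [lev]; have := a.2; omega)
      · by_cases ha : a.1 < l
        · have h4 := om_lin g (ee a) (ff L)
          rw [(hfix a ha).1, om_ee, om_ee, neg_inj] at h4
          rw [Pi.sub_apply, h4, sub_self]
        · exact h3 _ (by simp only [lev]; omega)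
    set r := lin g (ee L) - ee L with hr
    have h3 : Ge (lev m) (l - m + 1) r := hP (l - m) (ee L) (ge_ee (by simp only [lev, hL]; omega))
    set w := r - r (.inr L) • ff L with hw
    have hwm : Mid l w := by
      intro j hj
      have h4 : r (.inl j) = 0 := h3 _ (by simp only [lev]; omega)
      refine ⟨by rw [hw, Pi.sub_apply, Pi.smul_apply, ff_e, h4, smul_zero, sub_zero], ?_⟩
      rw [hw, Pi.sub_apply, Pi.smul_apply, ff_f]
      by_cases hjL : j = L
      · rw [if_pos hjL, hjL, smul_eq_mul, mul_one, sub_self]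
      · have hjl : j.1 < l := by
          have : j.1 ≠ l := fun h => hjL (Fin.ext h)
          omega
        have h5 := om_lin g (ee j) (ee L)
        rw [(hfix j hjl).1, om_ee, om_ee, neg_inj] at h5
        rw [if_neg hjL, smul_zero, sub_zero, hr, Pi.sub_apply, h5, sub_self]
    have hge : lin g (ee L) = ee L + w + r (.inr L) • ff L := by
      rw [hw, hr]
      abel
    have hpf : sympForm m k (ff L) (-w) = 0 := om_mid (l := L) hwm.neg
    set σ := sl (ff L) (-w) (-(r (.inr L))) hpf with hσ
    have hσe : lin σ (ee L) = lin g (ee L) := by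
      rw [hσ, sl_apply, om_ee, om_ee, Pi.neg_apply, ff_f, if_pos rfl, (hwm L le_rfl).2, hge]
      module
    have hσf : lin σ (ff L) = ff L := by
      rw [hσ, sl_apply, om_ff, om_ff, Pi.neg_apply, ff_e, (hwm L le_rfl).1]
      module
    have hσej : ∀ j : Fin m, j.1 < l → lin σ (ee j) = ee j := by
      intro j hj
      rw [hσ, sl_apply, om_ee, om_ee, Pi.neg_apply, ff_f, if_neg (hne j hj), (hwm j hj.le).2]
      module
    have hσfj : ∀ j : Fin m, j.1 < l → lin σ (ff j) = ff j := by
      intro j hj
      rw [hσ, sl_apply, om_ff, om_ff, Pi.neg_apply, ff_e, (hwm j hj.le).1]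
      module
    have hinv : ∀ v v' : VV m k, lin σ v = v' → lin σ⁻¹ v' = v := by
      intro v v' hv
      rw [← hv, map_inv]
      exact LinearEquiv.symm_apply_apply (lin σ) v
    have hσi : Pu (lev m) (lin σ⁻¹) := by
      have h5 : sympForm m k (ff L) w = 0 := om_mid (l := L) hwm
      have h6 : σ⁻¹ = sl (ff L) w (r (.inr L)) h5 := by
        rw [inv_eq_iff_mul_eq_one, hσ, sl_mul hpf h5]
        apply lin_inj
        rw [map_one]
        apply LinearEquiv.ext
        intro v
        rw [sl_apply, neg_add_cancel, sympForm_zero_right, sympForm_neg_right, sympForm_self]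
        change _ = v
        module
      rw [h6]
      exact sl_pu (l := L) hwm _ h5
    have hfin : σ⁻¹ * g ∈ K := by
      refine ih (σ⁻¹ * g) (l + 1) (by omega) (by rw [map_mul]; exact hσi.mul hP) ?_
      intro j hj
      rw [map_mul, mul_apply', mul_apply']
      by_cases hjl : j.1 < l
      · rw [(hfix j hjl).1, (hfix j hjl).2]
        exact ⟨hinv _ _ (hσej j hjl), hinv _ _ (hσfj j hjl)⟩
      · obtain rfl : j = L := Fin.ext (by simp only [hL]; omega)
        rw [h1]
        exact ⟨hinv _ _ hσe, hinv _ _ hσf⟩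
    obtain ⟨h5, h6⟩ := sg_mid hK h2 L (-w) hwm.neg
    have h7 : g = σ * (σ⁻¹ * g) := by group
    rw [h7]
    exact K.mul_mem (h6 _) hfin

/-- a symplectic matrix which is unitriangular lies in the group generated by the `ys i s` -/
theorem mem_of_unitri (h2 : (2 : k) ≠ 0) {g : SG m k} (hP : Pu (lev m) (lin g)) : g ∈ K :=
  mem_aux hK h2 m g 0 (by omega) hP fun j hj => absurd hj (by omega)

omit hK

/-! ### decomposition -/

/-- coordinates of `g (single b)` -/
theorem pu_coord {φ : Fin m ⊕ Fin m → ℤ} {g : VV m k ≃ₗ[k] VV m k} (hg : Pu φ g) {a b : Fin m ⊕ Fin m} (h : φ a ≤ φ b) :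
    g (Pi.single b 1) a = if a = b then 1 else 0 := by
  have h1 := hg (φ b) _ (ge_single (k := k) (b := b) le_rfl) a (by omega)
  rw [Pi.sub_apply, sub_eq_zero] at h1
  rw [h1, Pi.single_apply]

theorem exists_dec {g : SG m k} (hP : Pu (lev m) (lin g)) (i : Fin m) :
    ∃ c : k, Pu (levi i) (lin (g * ys i c)) := by
  by_cases hi : i.1 + 1 < m
  · set i' : Fin m := ⟨i.1 + 1, hi⟩ with hi'
    have hne : i' ≠ i := by
      intro h
      have := congrArg Fin.val h
      simp [hi'] at this
    refine ⟨- lin g (ee i) (.inl i'), ?_⟩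
    set c := lin g (ee i) (.inl i') with hc
    set g' := g * ys i (-c) with hg'
    have hP' : Pu (lev m) (lin g') := by rw [hg', map_mul]; exact hP.mul (ys_pu i _)
    have h0 : lin g' (ee i) (.inl i') = 0 := by
      have h1 : lin g' (ee i) = lin g (ee i) - c • lin g (ee i') := by
        rw [hg', map_mul, mul_apply', ys_long hi, ee_e, if_pos rfl, ee_f, ← hi', mul_one, mul_zero, zero_smul, sub_zero,
          map_add, map_smul, neg_smul, sub_eq_add_neg]
      have h2 : lin g (ee i') (.inl i') = 1 := by
        have := pu_coord hP (a := .inl i') (b := .inl i') le_rfl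
        rwa [if_pos rfl] at this
      rw [h1, Pi.sub_apply, Pi.smul_apply, h2, smul_eq_mul, mul_one, ← hc, sub_self]
    have h1 : lin g' (ff i') (.inr i) = 0 := by
      have h2 := om_lin g' (ff i') (ee i)
      have hx : ∀ a, lev m a ≤ lev m (.inr i') → lin g' (ff i') a = if a = .inr i' then 1 else 0 :=
        fun a ha => pu_coord hP' (a := a) (b := .inr i') ha
      have hy : ∀ a, lev m a ≤ lev m (.inl i) → lin g' (ee i) a = if a = .inl i then 1 else 0 :=
        fun a ha => pu_coord hP' (a := a) (b := .inl i) ha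
      have him := i.2
      rw [om_ff, ee_e, if_neg hne, sympForm_eq_sum] at h2
      rw [← h2]
      have h3 : ∀ j : Fin m, (lin g' (ff i') (.inr j) * lin g' (ee i) (.inl j) -
          lin g' (ff i') (.inl j) * lin g' (ee i) (.inr j)) =
          if j = i then lin g' (ff i') (.inr i) else 0 := by
        intro j
        have hj := j.2
        rw [hx (.inl j) (by simp only [lev, hi']; push_cast; omega), if_neg (by simp), zero_mul, sub_zero]
        by_cases e1 : j = i
        · rw [if_pos e1, e1, hy (.inl i) le_rfl, if_pos rfl, mul_one]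
        · rw [if_neg e1]
          by_cases e2 : j = i'
          · rw [e2, h0, mul_zero]
          · by_cases e3 : j.1 < i.1
            · rw [hy (.inl j) (by simp only [lev]; omega), if_neg (by simp [e1]), mul_zero]
            · rw [hx (.inr j) (by simp only [lev, hi']; push_cast; omega), if_neg (by simp [e2]), zero_mul]
      rw [Finset.sum_congr rfl fun j _ => h3 j, Finset.sum_ite_eq' Finset.univ i, if_pos (Finset.mem_univ _)]
    apply pu_of_single
    intro b a ha
    by_cases h : lev m a < lev m b + 1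
    · exact hP' _ _ (ge_single le_rfl) a h
    · have h2 : (b = .inl i ∧ a = .inl i') ∨ (b = .inr i' ∧ a = .inr i) := by
        have him := i.2
        have e1 : ∀ j : Fin m, j = i' ↔ j.1 = i.1 + 1 := fun j => Fin.ext_iff
        rcases a with a | a <;> rcases b with b | b <;>
          simp only [levi, lev, Fin.ext_iff, Sum.inr.injEq, Sum.inl.injEq, e1, reduceCtorEq, false_and, and_false, false_or,
            or_false] at ha h ⊢ <;>
          (try split_ifs at ha) <;> (try have := a.2) <;> (try have := b.2) <;> omega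
      rcases h2 with ⟨rfl, rfl⟩ | ⟨rfl, rfl⟩
      · change lin g' (ee i) (.inl i') - (ee i : VV m k) (.inl i') = 0
        rw [h0, ee_e, if_neg hne, sub_zero]
      · change lin g' (ff i') (.inr i) - (ff i' : VV m k) (.inr i) = 0
        rw [h1, ff_f, if_neg (Ne.symm hne), sub_zero]
  · refine ⟨- lin g (ee i) (.inr i), ?_⟩
    have him : i.1 + 1 = m := by have := i.2; omega
    set c := lin g (ee i) (.inr i) with hc
    set g' := g * ys i (-c) with hg'
    have hP' : Pu (lev m) (lin g') := by rw [hg', map_mul]; exact hP.mul (ys_pu i _)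
    have h0 : lin g' (ee i) (.inr i) = 0 := by
      have h1 : lin g' (ee i) = lin g (ee i) - c • lin g (ff i) := by
        rw [hg', map_mul, mul_apply', ys_short hi, ee_e, if_pos rfl, mul_one,
          map_add, map_smul, neg_smul, sub_eq_add_neg]
      have h2 : lin g (ff i) (.inr i) = 1 := by
        have := pu_coord hP (a := .inr i) (b := .inr i) le_rfl
        rwa [if_pos rfl] at this
      rw [h1, Pi.sub_apply, Pi.smul_apply, h2, smul_eq_mul, mul_one, ← hc, sub_self]
    apply pu_of_single
    intro b a ha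
    by_cases h : lev m a < lev m b + 1
    · exact hP' _ _ (ge_single le_rfl) a h
    · have h2 : b = .inl i ∧ a = .inr i := by
        rcases a with a | a <;> rcases b with b | b <;>
          simp only [levi, lev, Fin.ext_iff, Sum.inr.injEq, Sum.inl.injEq, reduceCtorEq, false_and, and_false, false_or,
            or_false, and_true, true_and] at ha h ⊢ <;>
          (try split_ifs at ha) <;> (try have := a.2) <;> (try have := b.2) <;> omega
      obtain ⟨rfl, rfl⟩ := h2
      change lin g' (ee i) (.inr i) - (ee i : VV m k) (.inr i) = 0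
      rw [h0, ee_f, sub_zero]

theorem of_levi {i : Fin m} {g : VV m k ≃ₗ[k] VV m k} (hg : Pu (levi i) g) : Pu (lev m) g := by
  apply pu_of_single
  intro b a ha
  have h : levi i a < levi i b + 1 := by
    by_contra hc
    have := levi_lt (i := i) (a := b) (b := a) (by omega)
    omega
  exact hg _ _ (ge_single le_rfl) a h

/-- `U⁻` -/
def Un (m : ℕ) (k : Type*) [Field k] : Subgroup (SG m k) := Subgroup.closure {g : SG m k | ∃ i s, g = ys i s}

theorem ys_mem_Un (i : Fin m) (s : k) : ys i s ∈ Un m k := Subgroup.subset_closure ⟨i, s, rfl⟩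

theorem Un_pu {g : SG m k} (hg : g ∈ Un m k) : Pu (lev m) (lin g) := by
  have h : Un m k ≤ (UU (k := k) (lev m)).comap lin := by
    unfold Un
    rw [Subgroup.closure_le]
    rintro _ ⟨i, s, rfl⟩
    refine ⟨ys_pu i s, ?_⟩
    change Pu (lev m) (lin (ys i s))⁻¹
    rw [← map_inv, ys_inv]
    exact ys_pu i (-s)
  exact (h hg).1

theorem mem_Un (h2 : (2 : k) ≠ 0) {g : SG m k} (hg : Pu (lev m) (lin g)) : g ∈ Un m k :=
  mem_of_unitri (fun i s => ys_mem_Un i s) h2 hg

/-! ### `U⁻` is a `p`-group -/

theorem sPgrp {p : ℕ} [Fact p.Prime] {F : Type*} [Field F] [CharP F p] : SPgrp p m F := by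
  rintro ⟨g, hg⟩
  rcases Nat.eq_zero_or_pos m with rfl | hm
  · refine ⟨0, Subtype.ext (lin_inj (LinearEquiv.ext fun v => ?_))⟩
    exact Subsingleton.elim _ _
  have hP : Pu (lev m) (lin g) := Un_pu hg
  set f : Module.End F (VV m F) := (lin g).toLinearMap with hf
  have h1 : ∀ (j : ℕ) (v : VV m F), Ge (lev m) (j - m : ℤ) (((f - 1) ^ j) v) := by
    intro j
    induction j with
    | zero =>
      intro v a ha
      exfalso
      rcases a with a | a <;> simp only [lev] at ha <;> (try have := a.2) <;> push_cast at ha <;> omega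
    | succ j ih =>
      intro v
      rw [pow_succ', Module.End.mul_apply]
      have h3 := hP _ _ (ih v)
      have h4 : ((j : ℤ) - m + 1) = ((j + 1 : ℕ) : ℤ) - m := by push_cast; ring
      rw [h4] at h3
      exact h3
  have h2 : (f - 1) ^ (2 * m + 1) = 0 := by
    apply LinearMap.ext
    intro v
    funext a
    refine h1 (2 * m + 1) v a ?_
    rcases a with a | a <;> simp only [lev] <;> (try have := a.2) <;> push_cast <;> omega
  have hnt' : Nontrivial (VV m F) := by
    have : Nonempty (Fin m ⊕ Fin m) := ⟨.inl ⟨0, hm⟩⟩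
    infer_instance
  have hnt : Nontrivial (Module.End F (VV m F)) := inferInstance
  have hch : CharP (Module.End F (VV m F)) p :=
    charP_of_injective_algebraMap (FaithfulSMul.algebraMap_injective F (Module.End F (VV m F))) p
  have h3 : f ^ p ^ (2 * m + 1) = 1 := by
    have h4 := sub_pow_char_pow_of_commute (p := p) (n := 2 * m + 1) (Commute.one_right f)
    rw [one_pow, pow_eq_zero_of_le (Nat.lt_pow_self (Fact.out : p.Prime).one_lt).le h2] at h4
    exact (sub_eq_zero.1 h4.symm)
  refine ⟨2 * m + 1, ?_⟩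
  apply Subtype.ext
  apply lin_inj
  apply LinearEquiv.toLinearMap_injective
  have h5 : ∀ j : ℕ, ((lin (g ^ j)).toLinearMap : Module.End F (VV m F)) = f ^ j := by
    intro j
    induction j with
    | zero => rw [pow_zero, map_one]; rfl
    | succ j ih =>
      rw [pow_succ, pow_succ, ← ih, map_mul]
      rfl
  refine (h5 _).trans (h3.trans ?_)
  change (1 : Module.End F (VV m F)) = (lin (1 : SG m F)).toLinearMap
  rw [map_one]
  rfl

/-! ### generation under `U⁻` -/

theorem sNeg {F : Type*} [Field F] [Fintype F] (h2 : (2 : F) ≠ 0) {k : Type*} [Field k] {W : Type*}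
    [AddCommGroup W] [Module k W] : SNeg m F k W := by
  intro ρ w hx ht hn
  set N : Submodule k W := Submodule.span k {x | ∃ u ∈ Un m F, x = ρ u w} with hN
  have hmem : ∀ u ∈ Un m F, ρ u w ∈ N := fun u hu => Submodule.subset_span ⟨u, hu, rfl⟩
  have hstab : ∀ g : SG m F, (∀ u ∈ Un m F, ρ (g * u) w ∈ N) → ∀ x ∈ N, ρ g x ∈ N := by
    intro g hg x hxN
    have h1 : N ≤ N.comap (ρ g) := by
      rw [hN, Submodule.span_le]
      rintro _ ⟨u, hu, rfl⟩
      change ρ g (ρ u w) ∈ N
      rw [← Module.End.mul_apply, ← map_mul]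
      exact hg u hu
    exact h1 hxN
  -- the rank one module
  have hone : ∀ (i : Fin m) (s t : F), ρ (xs i s * ys i t) w ∈ Submodule.span k (Set.range fun t : F => ρ (ys i t) w) := by
    intro i
    have hgood : ∀ s t : F, 1 + s * t ≠ 0 → ∃ a : k, ρ (xs i s * ys i t) w = a • ρ (ys i (t / (1 + s * t))) w := by
      intro s t hc
      have he := sRank i s t (Units.mk0 _ hc) rfl
      obtain ⟨a, ha⟩ := ht i (Units.mk0 _ hc)
      refine ⟨a, ?_⟩
      rw [he, map_mul, map_mul, Module.End.mul_apply, Module.End.mul_apply, hx, ha, map_smul]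
      rfl
    intro s t
    by_cases hc : 1 + s * t = 0
    · have ht0 : t ≠ 0 := by
        rintro rfl
        simp at hc
      -- `s = s'' + s'` with `1 / t + s' = 1`
      have hs : s = -1 + (1 - t⁻¹) := by
        have h3 : s = -t⁻¹ := by
          field_simp
          linear_combination hc
        rw [h3]
        ring
      have hc' : 1 + (1 - t⁻¹) * t ≠ 0 := by
        have : 1 + (1 - t⁻¹) * t = t := by
          field_simp
          ring
        rw [this]
        exact ht0
      obtain ⟨a, ha⟩ := hgood (1 - t⁻¹) t hc'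
      have h4 : t / (1 + (1 - t⁻¹) * t) = 1 := by
        have : 1 + (1 - t⁻¹) * t = t := by
          field_simp
          ring
        rw [this, div_self ht0]
      rw [h4] at ha
      have h5 : ρ (xs i s * ys i t) w = a • ρ (xs i (-1) * ys i 1) w := by
        have h6 : xs i s * ys i t = xs i (-1) * (xs i (1 - t⁻¹) * ys i t) := by
          rw [← mul_assoc, xs_mul, ← hs]
        rw [h6, map_mul, Module.End.mul_apply, ha, map_smul, map_mul, Module.End.mul_apply]
      rw [h5]
      exact Submodule.smul_mem _ _ (hn i)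
    · obtain ⟨a, ha⟩ := hgood s t hc
      rw [ha]
      exact Submodule.smul_mem _ _ (Submodule.subset_span ⟨_, rfl⟩)
  -- stability under `ys`
  have hyst : ∀ (i : Fin m) (s : F), ∀ x ∈ N, ρ (ys i s) x ∈ N := fun i s => hstab _ fun u hu =>
    hmem _ ((Un m F).mul_mem (ys_mem_Un i s) hu)
  -- stability under `xs`
  have hxst : ∀ (i : Fin m) (s : F), ∀ x ∈ N, ρ (xs i s) x ∈ N := by
    intro i s
    refine hstab _ fun u hu => ?_
    obtain ⟨c, hc⟩ := exists_dec (Un_pu hu) i
    have h3 : Pu (levi i) (lin (xs i s * (u * ys i c) * (xs i s)⁻¹)) := by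
      rw [map_mul, map_mul, map_inv]
      refine Pu.conj hc (xs_pt i s) ?_
      rw [← map_inv, xs_inv]
      exact xs_pt i (-s)
    have h4 : xs i s * (u * ys i c) * (xs i s)⁻¹ ∈ Un m F := mem_Un h2 (of_levi h3)
    have h5 : xs i s * u = (xs i s * (u * ys i c) * (xs i s)⁻¹) * (xs i s * ys i (-c)) := by
      rw [← ys_inv]
      group
    rw [h5, map_mul, Module.End.mul_apply]
    have h6 : Submodule.span k (Set.range fun t : F => ρ (ys i t) w) ≤ N.comap (ρ (xs i s * (u * ys i c) * (xs i s)⁻¹)) := by
      rw [Submodule.span_le]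
      rintro _ ⟨t, rfl⟩
      change ρ _ (ρ _ w) ∈ N
      rw [← Module.End.mul_apply, ← map_mul]
      exact hmem _ ((Un m F).mul_mem h4 (ys_mem_Un i t))
    exact h6 (hone i s (-c))
  -- the end
  have hall : ∀ g : SG m F, ∀ x ∈ N, ρ g x ∈ N := by
    intro g
    have hg := sGen g
    induction hg using Subgroup.closure_induction'' with
    | one => intro x hxN; rw [map_one]; exact hxN
    | mem g hg =>
      obtain ⟨i, s, rfl | rfl⟩ := hg
      · exact hxst i s
      · exact hyst i s
    | inv_mem g hg =>
      obtain ⟨i, s, rfl | rfl⟩ := hg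
      · rw [xs_inv]; exact hxst i _
      · rw [ys_inv]; exact hyst i _
    | mul g g' _ _ hg hg' =>
      intro x hxN
      rw [map_mul, Module.End.mul_apply]
      exact hg _ (hg' x hxN)
  intro g
  have h1 : ρ 1 w ∈ N := hmem 1 (Un m F).one_mem
  rw [map_one] at h1
  exact hall g w h1

end Cfsg.Agent.H421.UniS
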